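import Cfsg.Agent.Lib.Helper21.Co2.Points

set_option autoImplicit false

/-!
# The homomorphism from the Conway group `Co₂` of the definitions to the permutations of 4600 points
-/

namespace Cfsg.Agent.Lib.Helper21.Co2

open Cfsg
open Cfsg.Agent.Lib.Helper3.Golay
open Cfsg.Agent.Lib.Helper14.LeechXi
open Cfsg.Agent.Lib.Helper14.LeechMono
open Cfsg.Agent.Lib.Helper10.SX
open Cfsg.Agent.Lib.Helper4.McL (vecOf)

theorem smul_def' (g : ↥Spor.Co2) (x : ↥leechLattice) :
    g • x = (g : Equiv.Perm ↥leechLattice) x := rfl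

/-- the 4600 vectors as a set with an action of the group -/
def XS : SubMulAction ↥Spor.Co2 ↥leechLattice where
  carrier := X
  smul_mem' := by
    rintro g x ⟨h1, h2⟩
    obtain ⟨hco, hU⟩ := (mem_Co2_iff g.1).mp g.2
    rw [smul_def']
    refine ⟨?_, ?_⟩
    · rw [hco.2, h1]
    · have := dot_pres g.1 hco Spor.leechU x
      rw [hU] at this
      exact this.trans h2

theorem XS_smul_val (g : ↥Spor.Co2) (x : ↥XS) :
    ((g • x : ↥XS) : ↥leechLattice) = (g : Equiv.Perm ↥leechLattice) x.1 := rfl

/-- the enumeration of the points of `XS` -/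
noncomputable def eXS : Fin 4600 ≃ ↥XS := e4600

theorem eXS_val (i : Fin 4600) :
    (((eXS i : ↥XS) : ↥leechLattice) : GolayPt → ℤ) = vecOf (P4600 i.val) := rfl

/-- the action on the 4600 points -/
noncomputable def psi : ↥Spor.Co2 →* Equiv.Perm (Fin 4600) :=
  (eXS.symm.permCongrHom.toMonoidHom).comp (MulAction.toPermHom ↥Spor.Co2 ↥XS)

theorem psi_apply (g : ↥Spor.Co2) (i : Fin 4600) : eXS (psi g i) = g • eXS i := by
  show eXS (eXS.symm (g • eXS.symm.symm i)) = g • eXS i
  rw [Equiv.apply_symm_apply]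
  rfl

/-- the image of a group element is a given packed permutation as soon as the lists match -/
theorem psi_eq_perm (g : ↥Spor.Co2) (c : ℕ) (hc : Valid 4600 c) (gL : List ℤ → List ℤ)
    (hg : ∀ (v : ↥leechLattice) (l : List ℤ), (v : GolayPt → ℤ) = vecOf l →
      (((g : Equiv.Perm ↥leechLattice) v : ↥leechLattice) : GolayPt → ℤ) = vecOf (gL l))
    (hL : ∀ i < 4600, gL (P4600 i) = P4600 (ap 4600 c i)) : psi g = perm 4600 c := by
  apply Equiv.ext
  intro i
  apply eXS.injective
  rw [psi_apply]
  apply Subtype.ext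
  apply Subtype.ext
  rw [XS_smul_val, hg _ _ (eXS_val i), hL i.val i.isLt, eXS_val, perm_apply_val hc]

/-- the first generator on the points -/
abbrev cA : ℕ := cL0
/-- its inverse -/
abbrev cAi : ℕ := cL1
/-- the second generator on the points -/
abbrev cB : ℕ := cL2
/-- its inverse -/
abbrev cBi : ℕ := cL3

set_option maxHeartbeats 0 in
theorem invA_1 : invB 4600 cA cAi = true := by decide +kernel
set_option maxHeartbeats 0 in
theorem invA_2 : invB 4600 cAi cA = true := by decide +kernel
set_option maxHeartbeats 0 in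
theorem invB_1 : invB 4600 cB cBi = true := by decide +kernel
set_option maxHeartbeats 0 in
theorem invB_2 : invB 4600 cBi cB = true := by decide +kernel

theorem valid_A : Valid 4600 cA := valid_of_invOf ((invB_iff _ _ _).mp invA_1)
theorem valid_Ai : Valid 4600 cAi := valid_of_invOf ((invB_iff _ _ _).mp invA_2)
theorem valid_B : Valid 4600 cB := valid_of_invOf ((invB_iff _ _ _).mp invB_1)
theorem valid_Bi : Valid 4600 cBi := valid_of_invOf ((invB_iff _ _ _).mp invB_2)

theorem perm_Ai : perm 4600 cAi = (perm 4600 cA)⁻¹ :=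
  perm_inv_of_invOf ((invB_iff _ _ _).mp invA_1) valid_Ai

theorem perm_Bi : perm 4600 cBi = (perm 4600 cB)⁻¹ :=
  perm_inv_of_invOf ((invB_iff _ _ _).mp invB_1) valid_Bi

set_option maxHeartbeats 0 in
theorem actA_chk : allLt 4600 (fun i => forceB (blkP ptsP i) fun b =>
    forceB (blkP midP i) fun q => forceB (blkP ptsP (ap 4600 cA i)) fun b' =>
      xiChk b q && spChk t1N c1 q b') = true := by decide +kernel

set_option maxHeartbeats 0 in
theorem actB_chk : allLt 4600 (fun i => forceB (blkP ptsP i) fun b =>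
    forceB (blkP ptsP (ap 4600 cB i)) fun b' => spChk tBN cB0 b b') = true := by decide +kernel

theorem actA : ∀ i < 4600, gAL (P4600 i) = P4600 (ap 4600 cA i) := by
  intro i hi
  have h := (allLt_iff _ _).mp actA_chk i hi
  rw [forceB_eq, forceB_eq, forceB_eq, Bool.and_eq_true] at h
  unfold gAL P4600
  rw [xiChk_sound h.1]
  exact spChk_sound t1N_eq h.2

theorem actB : ∀ i < 4600, gBL (P4600 i) = P4600 (ap 4600 cB i) := by
  intro i hi
  have h := (allLt_iff _ _).mp actB_chk i hi
  rw [forceB_eq, forceB_eq] at h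
  exact spChk_sound tBN_eq h

/-- the first generator in the group -/
noncomputable def mA : ↥Spor.Co2 := ⟨gA, gA_mem⟩

/-- the second generator in the group -/
noncomputable def mB : ↥Spor.Co2 := ⟨gB, gB_mem⟩

theorem psi_mA : psi mA = perm 4600 cA := psi_eq_perm mA cA valid_A gAL gA_apply actA

theorem psi_mB : psi mB = perm 4600 cB := psi_eq_perm mB cB valid_B gBL gB_apply actB

end Cfsg.Agent.Lib.Helper21.Co2
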