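import Cfsg.Agent.Lib.Helper21.Co2.Action
import Cfsg.Agent.Lib.Helper10.SXRigid

set_option autoImplicit false

/-!
# The letters: the two generators of the group on 4600 points, strong generators of a stabiliser chain, and
their inverses, as packed permutations
-/

namespace Cfsg.Agent.Lib.Helper21.Co2

open Cfsg
open Cfsg.Agent.Lib.Helper10.SX

noncomputable section

/-- the group on 4600 points -/
def P : Subgroup (Equiv.Perm (Fin 4600)) := grp 4600 [cA, cB]

/-- the list of the letters -/
def ltrs : List ℕ :=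
  [cL0, cL1, cL2, cL3, cL4, cL5, cL6, cL7, cL8, cL9, cL10, cL11, cL12, cL13, cL14, cL15, cL16, cL17, cL18, cL19]

/-- the letter with a given index -/
def ltr (k : ℕ) : ℕ := ltrs.getD k cL0

/-- the index of the inverse letter -/
def invl (k : ℕ) : ℕ := if k < 20 then (if k % 2 = 0 then k + 1 else k - 1) else 1

/-- the packed map `c` is the formal product `L` -/
def wordChk (n c : ℕ) (L : List ℕ) : Bool := allLt n fun x => Nat.beq (ap n c x) (evalL n L x)

theorem wordChk_sound {n c : ℕ} {L : List ℕ} (h : wordChk n c L = true)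
    (hL : ∀ d ∈ L, Valid n d) : Valid n c ∧ perm n c = prodL n L := by
  unfold wordChk at h
  rw [allLt_iff] at h
  have hfn : fn n c = ⇑(prodL n L) := by
    funext i
    apply Fin.ext
    rw [fn_val, prodL_apply_val L hL]
    exact Nat.eq_of_beq_eq_true (h i.val i.isLt)
  have hv : Valid n c := by
    unfold Valid
    rw [hfn]
    exact (prodL n L).bijective
  refine ⟨hv, ?_⟩
  apply Equiv.ext
  intro i
  rw [perm_apply hv, hfn]

/-- a letter is a bijection and lies in the group -/
def Good (k : ℕ) : Prop := Valid 4600 (ltr k) ∧ perm 4600 (ltr k) ∈ P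

theorem mem_A : cA ∈ [cA, cB] := List.mem_cons_self

theorem mem_B : cB ∈ [cA, cB] := List.mem_cons_of_mem _ List.mem_cons_self

theorem good_lt_4 : ∀ j < 4, Good j := by
  intro j hj
  interval_cases j
  · exact ⟨valid_A, perm_mem_grp mem_A⟩
  · refine ⟨valid_Ai, ?_⟩
    show perm 4600 cAi ∈ P
    rw [perm_Ai]
    exact P.inv_mem (perm_mem_grp mem_A)
  · exact ⟨valid_B, perm_mem_grp mem_B⟩
  · refine ⟨valid_Bi, ?_⟩
    show perm 4600 cBi ∈ P
    rw [perm_Bi]
    exact P.inv_mem (perm_mem_grp mem_B)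

/-- the step: a new letter defined by a word in earlier letters, and its inverse -/
theorem good_step (m : ℕ) (w : List ℕ) (hm : ∀ j < m, Good j) (hw : ∀ j ∈ w, j < m)
    (h1 : wordChk 4600 (ltr m) (w.map ltr) = true)
    (h2 : invB 4600 (ltr m) (ltr (m + 1)) = true) (h3 : invB 4600 (ltr (m + 1)) (ltr m) = true) :
    (∀ j < m + 2, Good j) ∧ perm 4600 (ltr (m + 1)) = (perm 4600 (ltr m))⁻¹ := by
  have hL : ∀ d ∈ w.map ltr, Valid 4600 d ∧ perm 4600 d ∈ P := by
    intro d hd
    obtain ⟨j, hj, rfl⟩ := List.mem_map.mp hd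
    exact hm j (hw j hj)
  obtain ⟨hv, hp⟩ := wordChk_sound h1 (fun d hd => (hL d hd).1)
  have hmem : perm 4600 (ltr m) ∈ P := by
    rw [hp]
    exact prodL_mem (fun d hd => (hL d hd).2)
  have hv' : Valid 4600 (ltr (m + 1)) := valid_of_invOf ((invB_iff _ _ _).mp h3)
  have hinv : perm 4600 (ltr (m + 1)) = (perm 4600 (ltr m))⁻¹ :=
    perm_inv_of_invOf ((invB_iff _ _ _).mp h2) hv'
  refine ⟨?_, hinv⟩
  intro j hj
  rcases Nat.lt_or_ge j m with h | h
  · exact hm j h
  · rcases Nat.eq_or_lt_of_le h with rfl | h'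
    · exact ⟨hv, hmem⟩
    · have : j = m + 1 := by omega
      subst this
      exact ⟨hv', by rw [hinv]; exact P.inv_mem hmem⟩

set_option maxHeartbeats 0 in
theorem wc4 : wordChk 4600 (ltr 4) (dW4.map ltr) = true := by decide +kernel

set_option maxHeartbeats 0 in
theorem wc6 : wordChk 4600 (ltr 6) (dW6.map ltr) = true := by decide +kernel

set_option maxHeartbeats 0 in
theorem wc8 : wordChk 4600 (ltr 8) (dW8.map ltr) = true := by decide +kernel

set_option maxHeartbeats 0 in
theorem wc10 : wordChk 4600 (ltr 10) (dW10.map ltr) = true := by decide +kernel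

set_option maxHeartbeats 0 in
theorem wc12 : wordChk 4600 (ltr 12) (dW12.map ltr) = true := by decide +kernel

set_option maxHeartbeats 0 in
theorem wc14 : wordChk 4600 (ltr 14) (dW14.map ltr) = true := by decide +kernel

set_option maxHeartbeats 0 in
theorem wc16 : wordChk 4600 (ltr 16) (dW16.map ltr) = true := by decide +kernel

set_option maxHeartbeats 0 in
theorem wc18 : wordChk 4600 (ltr 18) (dW18.map ltr) = true := by decide +kernel


set_option maxHeartbeats 0 in
theorem iv4 : invB 4600 (ltr 4) (ltr 5) = true := by decide +kernel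
set_option maxHeartbeats 0 in
theorem iv5 : invB 4600 (ltr 5) (ltr 4) = true := by decide +kernel

set_option maxHeartbeats 0 in
theorem iv6 : invB 4600 (ltr 6) (ltr 7) = true := by decide +kernel
set_option maxHeartbeats 0 in
theorem iv7 : invB 4600 (ltr 7) (ltr 6) = true := by decide +kernel

set_option maxHeartbeats 0 in
theorem iv8 : invB 4600 (ltr 8) (ltr 9) = true := by decide +kernel
set_option maxHeartbeats 0 in
theorem iv9 : invB 4600 (ltr 9) (ltr 8) = true := by decide +kernel

set_option maxHeartbeats 0 in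
theorem iv10 : invB 4600 (ltr 10) (ltr 11) = true := by decide +kernel
set_option maxHeartbeats 0 in
theorem iv11 : invB 4600 (ltr 11) (ltr 10) = true := by decide +kernel

set_option maxHeartbeats 0 in
theorem iv12 : invB 4600 (ltr 12) (ltr 13) = true := by decide +kernel
set_option maxHeartbeats 0 in
theorem iv13 : invB 4600 (ltr 13) (ltr 12) = true := by decide +kernel

set_option maxHeartbeats 0 in
theorem iv14 : invB 4600 (ltr 14) (ltr 15) = true := by decide +kernel
set_option maxHeartbeats 0 in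
theorem iv15 : invB 4600 (ltr 15) (ltr 14) = true := by decide +kernel

set_option maxHeartbeats 0 in
theorem iv16 : invB 4600 (ltr 16) (ltr 17) = true := by decide +kernel
set_option maxHeartbeats 0 in
theorem iv17 : invB 4600 (ltr 17) (ltr 16) = true := by decide +kernel

set_option maxHeartbeats 0 in
theorem iv18 : invB 4600 (ltr 18) (ltr 19) = true := by decide +kernel
set_option maxHeartbeats 0 in
theorem iv19 : invB 4600 (ltr 19) (ltr 18) = true := by decide +kernel


theorem step4 : (∀ j < 6, Good j) ∧ perm 4600 (ltr 5) = (perm 4600 (ltr 4))⁻¹ :=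
  good_step 4 dW4 good_lt_4 (by decide) wc4 iv4 iv5

theorem step6 : (∀ j < 8, Good j) ∧ perm 4600 (ltr 7) = (perm 4600 (ltr 6))⁻¹ :=
  good_step 6 dW6 step4.1 (by decide) wc6 iv6 iv7

theorem step8 : (∀ j < 10, Good j) ∧ perm 4600 (ltr 9) = (perm 4600 (ltr 8))⁻¹ :=
  good_step 8 dW8 step6.1 (by decide) wc8 iv8 iv9

theorem step10 : (∀ j < 12, Good j) ∧ perm 4600 (ltr 11) = (perm 4600 (ltr 10))⁻¹ :=
  good_step 10 dW10 step8.1 (by decide) wc10 iv10 iv11

theorem step12 : (∀ j < 14, Good j) ∧ perm 4600 (ltr 13) = (perm 4600 (ltr 12))⁻¹ :=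
  good_step 12 dW12 step10.1 (by decide) wc12 iv12 iv13

theorem step14 : (∀ j < 16, Good j) ∧ perm 4600 (ltr 15) = (perm 4600 (ltr 14))⁻¹ :=
  good_step 14 dW14 step12.1 (by decide) wc14 iv14 iv15

theorem step16 : (∀ j < 18, Good j) ∧ perm 4600 (ltr 17) = (perm 4600 (ltr 16))⁻¹ :=
  good_step 16 dW16 step14.1 (by decide) wc16 iv16 iv17

theorem step18 : (∀ j < 20, Good j) ∧ perm 4600 (ltr 19) = (perm 4600 (ltr 18))⁻¹ :=
  good_step 18 dW18 step16.1 (by decide) wc18 iv18 iv19

theorem good_lt_20 : ∀ j < 20, Good j := step18.1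

theorem inv_even : ∀ k < 20, k % 2 = 0 → perm 4600 (ltr (k + 1)) = (perm 4600 (ltr k))⁻¹ := by
  intro k hk h2
  have : k = 0 ∨ k = 2 ∨ k = 4 ∨ k = 6 ∨ k = 8 ∨ k = 10 ∨ k = 12 ∨ k = 14 ∨ k = 16 ∨ k = 18 := by omega
  rcases this with rfl | rfl | rfl | rfl | rfl | rfl | rfl | rfl | rfl | rfl
  · exact perm_Ai
  · exact perm_Bi
  · exact step4.2
  · exact step6.2
  · exact step8.2
  · exact step10.2
  · exact step12.2
  · exact step14.2
  · exact step16.2
  · exact step18.2

theorem ltr_ge {k : ℕ} (hk : 20 ≤ k) : ltr k = cL0 := by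
  unfold ltr
  exact List.getD_eq_default _ _ (by simpa [ltrs] using hk)

theorem ltr_ok (k : ℕ) : Valid 4600 (ltr k) ∧ perm 4600 (ltr k) ∈ P ∧
    perm 4600 (ltr (invl k)) = (perm 4600 (ltr k))⁻¹ := by
  by_cases hk : k < 20
  · refine ⟨(good_lt_20 k hk).1, (good_lt_20 k hk).2, ?_⟩
    unfold invl
    rw [if_pos hk]
    by_cases h2 : k % 2 = 0
    · rw [if_pos h2]
      exact inv_even k hk h2
    · rw [if_neg h2]
      have h3 : (k - 1) % 2 = 0 := by omega
      have h4 := inv_even (k - 1) (by omega) h3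
      have h5 : k - 1 + 1 = k := by omega
      rw [h5] at h4
      rw [h4, inv_inv]
  · push Not at hk
    unfold invl
    rw [if_neg (by omega), ltr_ge hk]
    exact ⟨valid_A, perm_mem_grp mem_A, perm_Ai⟩

end

end Cfsg.Agent.Lib.Helper21.Co2
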