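import Cfsg.Agent.Lib.Helper21.Co2.Iso

set_option autoImplicit false

/-!
# Tools for the automorphisms of the Conway group `Co₂` on 4600 points

Equality of words through the images of the five base points, codes of elements, conjugates of the involution
`t = B`, powers of words, the relations of the generating pair `(t, y) = (B, A)` with witnesses of failure, lists.
-/

namespace Cfsg.Agent.Lib.Helper21.Co2

open Cfsg
open Cfsg.Agent.Lib.Helper10.SX

attribute [local irreducible] perm

noncomputable section

/-! ### equality of words -/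

/-- Boolean equality of the images of the base points under two words -/
def sigEq (w w' : List ℕ) : Bool :=
  bs.all fun x => Nat.beq (evW w x) (evW w' x)

theorem bs_lt : ∀ b ∈ bs, b < 4600 := by decide

theorem gw_eq_of_sig {w w' : List ℕ} (h : ∀ b ∈ bs, evW w b = evW w' b) : gw w = gw w' := by
  have h1 : (gw w')⁻¹ * gw w = 1 := by
    apply rigid
    intro b hb
    rw [mul_smul, inv_smul_eq_iff]
    apply Fin.ext
    rw [gw_smul_val, gw_smul_val, fpt_val (bs_lt b hb)]
    exact h b hb
  rw [inv_mul_eq_one] at h1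
  exact h1.symm

theorem sigEq_iff (w w' : List ℕ) : sigEq w w' = true ↔ gw w = gw w' := by
  unfold sigEq
  rw [List.all_eq_true]
  constructor
  · intro h
    apply gw_eq_of_sig
    intro b hb
    exact Nat.eq_of_beq_eq_true (h b hb)
  · intro h x hx
    have hx' : x < 4600 := bs_lt x hx
    have := congrArg (fun g : ↥P => (g • (⟨x, hx'⟩ : Fin 4600)).val) h
    simp only [gw_smul_val] at this
    rw [this]
    exact Nat.beq_refl _

theorem sigEq_eq_false_iff (w w' : List ℕ) : sigEq w w' = false ↔ gw w ≠ gw w' := by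
  rw [Ne, ← sigEq_iff, Bool.not_eq_true]

/-! ### codes of elements -/

/-- the code of the images of the five base points under a word -/
def codeW (w : List ℕ) : ℕ :=
  evW w 0 * 4503599627370496 + evW w 556 * 549755813888 + evW w 561 * 67108864 + evW w 614 * 8192 +
    evW w 1

/-- the code of the images of the five base points under an element -/
def hcode (g : ↥P) : ℕ :=
  (g • fpt 0).val * 4503599627370496 + (g • fpt 556).val * 549755813888 +
    (g • fpt 561).val * 67108864 + (g • fpt 614).val * 8192 + (g • fpt 1).val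

theorem codeW_eq (w : List ℕ) : codeW w = hcode (gw w) := by
  unfold codeW hcode
  rw [gw_smul_val, gw_smul_val, gw_smul_val, gw_smul_val, gw_smul_val, fpt_val (by norm_num),
    fpt_val (by norm_num), fpt_val (by norm_num), fpt_val (by norm_num), fpt_val (by norm_num)]

theorem hcode_injective : Function.Injective hcode := by
  intro g g' h
  unfold hcode at h
  have b0 := (g • fpt 0).isLt
  have b1 := (g • fpt 556).isLt
  have b2 := (g • fpt 561).isLt
  have b3 := (g • fpt 614).isLt
  have b4 := (g • fpt 1).isLt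
  have c0 := (g' • fpt 0).isLt
  have c1 := (g' • fpt 556).isLt
  have c2 := (g' • fpt 561).isLt
  have c3 := (g' • fpt 614).isLt
  have c4 := (g' • fpt 1).isLt
  have e0 : (g • fpt 0).val = (g' • fpt 0).val := by omega
  have e1 : (g • fpt 556).val = (g' • fpt 556).val := by omega
  have e2 : (g • fpt 561).val = (g' • fpt 561).val := by omega
  have e3 : (g • fpt 614).val = (g' • fpt 614).val := by omega
  have e4 : (g • fpt 1).val = (g' • fpt 1).val := by omega
  have h1 : g'⁻¹ * g = 1 := by
    apply rigid
    intro b hb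
    rw [mul_smul, inv_smul_eq_iff]
    apply Fin.ext
    simp only [bs, List.mem_cons, List.not_mem_nil, or_false] at hb
    rcases hb with rfl | rfl | rfl | rfl | rfl
    · exact e0
    · exact e1
    · exact e2
    · exact e3
    · exact e4
  rw [inv_mul_eq_one] at h1
  exact h1.symm

/-! ### conjugates of the involution -/

/-- the word of the involution `t = B` -/
def tw : List ℕ := [2]

/-- the word of the conjugate of the involution by a word -/
def conjW (w : List ℕ) : List ℕ := w ++ (tw ++ winv w)

theorem gw_conjW (w : List ℕ) : gw (conjW w) = gw w * (gw tw * (gw w)⁻¹) := by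
  rw [conjW, gw_append, gw_append, gw_winv]

/-- the code of the conjugate of the involution by a word -/
def codeInv (w : List ℕ) : ℕ := codeW (conjW w)

theorem codeInv_eq (w : List ℕ) : codeInv w = hcode (gw (conjW w)) := codeW_eq _

/-! ### powers of words -/

/-- the power of a word -/
def rpt : ℕ → List ℕ → List ℕ
  | 0, _ => []
  | m + 1, l => l ++ rpt m l

theorem gw_rpt (m : ℕ) (l : List ℕ) : gw (rpt m l) = gw l ^ m := by
  induction m with
  | zero => rfl
  | succ m ih => rw [rpt, gw_append, ih, pow_succ']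

/-- a point moved by `g ^ (m % l)` and fixed by `g ^ l` is moved by `g ^ m` -/
theorem pow_ne_one_of_cycle (g : ↥P) (p : Fin 4600) (l m : ℕ) (h1 : g ^ l • p = p)
    (h2 : g ^ (m % l) • p ≠ p) : g ^ m ≠ 1 := by
  intro h
  apply h2
  have hq : ∀ q : ℕ, (g ^ l) ^ q • p = p := by
    intro q
    induction q with
    | zero => rw [pow_zero, one_smul]
    | succ q ih => rw [pow_succ, mul_smul, h1, ih]
  have e : g ^ m = g ^ (m % l) * (g ^ l) ^ (m / l) := by
    rw [← pow_mul, ← pow_add, Nat.mod_add_div]
  have h3 : g ^ m • p = g ^ (m % l) • p := by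
    rw [e, mul_smul, hq]
  rw [← h3, h, one_smul]

/-! ### the relations -/

/-- the word `a y^k` or (for `r = 5`) `a y a y^7 a y^3` -/
def relW (r : ℕ) (A : List ℕ) : List ℕ :=
  match r with
  | 1 => A ++ rpt 1 [0]
  | 2 => A ++ rpt 2 [0]
  | 3 => A ++ rpt 3 [0]
  | 4 => A ++ rpt 4 [0]
  | _ => A ++ (rpt 1 [0] ++ (A ++ (rpt 7 [0] ++ (A ++ rpt 3 [0]))))

/-- the exponents of the relations -/
def relM (r : ℕ) : ℕ :=
  match r with
  | 1 => 23
  | 2 => 15
  | 3 => 20
  | 4 => 14
  | _ => 8

/-- the element `a y^k` or (for `r = 5`) `a y a y^7 a y^3` -/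
def relG (r : ℕ) (a y : ↥P) : ↥P :=
  match r with
  | 1 => a * y ^ 1
  | 2 => a * y ^ 2
  | 3 => a * y ^ 3
  | 4 => a * y ^ 4
  | _ => a * (y ^ 1 * (a * (y ^ 7 * (a * y ^ 3))))

theorem gw_relW (r : ℕ) (A : List ℕ) : gw (relW r A) = relG r (gw A) (gw [0]) := by
  unfold relW relG
  split <;> simp only [gw_append, gw_rpt]

/-- the relations of the generating pair -/
def Rel (a y : ↥P) : Prop := ∀ r, 1 ≤ r → r ≤ 5 → relG r a y ^ relM r = 1

theorem relG_map (f : ↥P →* ↥P) (r : ℕ) (a y : ↥P) : f (relG r a y) = relG r (f a) (f y) := by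
  unfold relG
  split <;> simp only [map_mul, map_pow]

/-- the relations are preserved by homomorphisms -/
theorem Rel.map {a y : ↥P} (h : Rel a y) (f : ↥P →* ↥P) : Rel (f a) (f y) := by
  intro r h1 h5
  rw [← relG_map, ← map_pow, h r h1 h5, map_one]

/-- a witness that the relation `r` fails for the word `A` (and `y = A`): a point `p` on a cycle of length `l` of
the element, where `l` does not divide the exponent -/
def relFailW (A : List ℕ) (r p l : ℕ) : Bool :=
  decide (1 ≤ r) && decide (r ≤ 5) && decide (p < 4600) &&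
    Nat.beq (evW (rpt l (relW r A)) p) p && !(Nat.beq (evW (rpt (relM r % l) (relW r A)) p) p)

theorem not_rel_of_failW {A : List ℕ} {r p l : ℕ} (h : relFailW A r p l = true) :
    ¬ Rel (gw A) (gw [0]) := by
  unfold relFailW at h
  simp only [Bool.and_eq_true, decide_eq_true_eq, Bool.not_eq_true'] at h
  obtain ⟨⟨⟨⟨h1, h5⟩, hp⟩, hfix⟩, hmove⟩ := h
  intro hrel
  have hr := hrel r h1 h5
  rw [← gw_relW, ← gw_rpt] at hr
  have hfix' : gw (relW r A) ^ l • (⟨p, hp⟩ : Fin 4600) = ⟨p, hp⟩ := by
    apply Fin.ext
    rw [← gw_rpt, gw_smul_val]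
    exact Nat.eq_of_beq_eq_true hfix
  have hmove' : gw (relW r A) ^ (relM r % l) • (⟨p, hp⟩ : Fin 4600) ≠ ⟨p, hp⟩ := by
    intro he
    have := congrArg Fin.val he
    rw [← gw_rpt, gw_smul_val] at this
    rw [this, Nat.beq_refl] at hmove
    exact absurd hmove (by decide)
  apply pow_ne_one_of_cycle _ _ _ _ hfix' hmove'
  rw [← gw_rpt]
  exact hr

/-- the relations hold for a word, by computation -/
def relOkW (A : List ℕ) : Bool :=
  [1, 2, 3, 4, 5].all fun r => sigEq (rpt (relM r) (relW r A)) []

theorem rel_of_okW {A : List ℕ} (h : relOkW A = true) : Rel (gw A) (gw [0]) := by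
  intro r h1 h5
  unfold relOkW at h
  rw [List.all_eq_true] at h
  have hr : r ∈ [1, 2, 3, 4, 5] := by
    have : r = 1 ∨ r = 2 ∨ r = 3 ∨ r = 4 ∨ r = 5 := by omega
    rcases this with rfl | rfl | rfl | rfl | rfl <;> simp
  have := (sigEq_iff _ _).mp (h r hr)
  rw [gw_rpt, gw_relW] at this
  exact this

/-! ### lists -/

/-- equality of lists of numbers -/
def eqL : List ℕ → List ℕ → Bool
  | [], [] => true
  | a :: l, b :: l' => Nat.beq a b && eqL l l'
  | _, _ => false

theorem eq_of_eqL : ∀ {l l' : List ℕ}, eqL l l' = true → l = l'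
  | [], [], _ => rfl
  | a :: l, b :: l', h => by
    rw [eqL, Bool.and_eq_true] at h
    rw [Nat.eq_of_beq_eq_true h.1, eq_of_eqL h.2]
  | [], _ :: _, h => by simp [eqL] at h
  | _ :: _, [], h => by simp [eqL] at h

/-- strictly increasing, from above the bound -/
def incrFrom : ℕ → List ℕ → Bool
  | _, [] => true
  | lo, a :: l => Nat.blt lo a && incrFrom a l

theorem incrFrom_lt : ∀ (l : List ℕ) (lo : ℕ), incrFrom lo l = true → ∀ b ∈ l, lo < b
  | [], _, _, b, hb => absurd hb List.not_mem_nil
  | c :: l, a, h, b, hb => by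
    rw [incrFrom, Bool.and_eq_true] at h
    have hac : a < c := by simpa [Nat.blt] using h.1
    rcases List.mem_cons.mp hb with rfl | hb'
    · exact hac
    · exact lt_trans hac (incrFrom_lt l c h.2 b hb')

theorem nodup_of_incrFrom : ∀ (l : List ℕ) (lo : ℕ), incrFrom lo l = true → l.Nodup
  | [], _, _ => List.nodup_nil
  | a :: l, lo, h => by
    rw [incrFrom, Bool.and_eq_true] at h
    rw [List.nodup_cons]
    exact ⟨fun ha => lt_irrefl a (incrFrom_lt l a h.2 a ha), nodup_of_incrFrom l a h.2⟩

theorem incrFrom_append : ∀ (l m : List ℕ) (lo : ℕ),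
    incrFrom lo (l ++ m) = (incrFrom lo l && incrFrom (l.getLastD lo) m)
  | [], m, lo => by simp [incrFrom]
  | a :: l, m, lo => by
    rw [List.cons_append, incrFrom, incrFrom, incrFrom_append l m a, List.getLastD_cons,
      Bool.and_assoc]

end

end Cfsg.Agent.Lib.Helper21.Co2
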