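import Cfsg.Agent.Lib.Helper21.Co2.OSyl
import Cfsg.Agent.Lib.Helper21.Co2.OCentData
import Cfsg.Agent.Lib.Helper10.OutGen

set_option autoImplicit false

/-!
# The centraliser of the involution `t` of the Conway group `Co₂` on 4600 points has at least `743178240` elements
-/

namespace Cfsg.Agent.Lib.Helper21.Co2

open Cfsg
open Cfsg.Agent.Lib.Helper10.SX Cfsg.Agent.Lib.Helper10.OutG
open Cfsg.Agent.Lib.Helper4.McL (ChainOK chain_card_le chainSet chainSet_card)

attribute [local irreducible] perm

noncomputable section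

/-- the words of the chain commute with the involution -/
def centB (lv : List (ℕ × List (List ℕ))) : Bool :=
  lv.all fun q => q.2.all fun w => sigEq (w ++ tw) (tw ++ w)

set_option maxHeartbeats 0 in
set_option maxRecDepth 100000 in
theorem chainC : chainB lvC = true := by decide +kernel

set_option maxHeartbeats 0 in
set_option maxRecDepth 100000 in
theorem centC : centB lvC = true := by decide +kernel

theorem prodC : (lvC.map fun q => q.2.length).prod = 743178240 := by decide +kernel

theorem chainSet_subset {G α : Type*} [Group G] [MulAction G α] (S K : Subgroup G) (hSK : S ≤ K) :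
    ∀ lv : List (α × List G), (∀ q ∈ lv, ∀ g ∈ q.2, g ∈ K) → chainSet S lv ⊆ (K : Set G)
  | [], _ => fun _ hx => hSK hx
  | p :: rest, h => by
    rintro x ⟨g, hg, m, hm, rfl⟩
    exact K.mul_mem (h p List.mem_cons_self g hg)
      (chainSet_subset S K hSK rest (fun q hq => h q (List.mem_cons_of_mem _ hq)) hm)

theorem lvC_mem : ∀ q ∈ lvC.map toLvl, ∀ g ∈ q.2, g ∈ Subgroup.centralizer ({t} : Set ↥P) := by
  intro q hq g hg
  obtain ⟨q', hq', rfl⟩ := List.mem_map.mp hq
  obtain ⟨w, hw, rfl⟩ := List.mem_map.mp hg
  have h := centC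
  unfold centB at h
  rw [List.all_eq_true] at h
  have h := h q' hq'
  rw [List.all_eq_true] at h
  have h1 := (sigEq_iff _ _).mp (h w hw)
  rw [gw_append, gw_append] at h1
  rw [Subgroup.mem_centralizer_singleton_iff]
  exact h1

theorem card_C_ge : 743178240 ≤ Nat.card ↥(Subgroup.centralizer ({t} : Set ↥P)) := by
  have h1 := chainSet_card (⊥ : Subgroup ↥P) (lvC.map toLvl) (chainB_sound lvC chainC)
    (fun q _ s hs => by rw [Subgroup.mem_bot.mp hs, one_smul])
  have h2 : ((lvC.map toLvl).map fun q => q.2.length) = lvC.map fun q => q.2.length := by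
    rw [List.map_map]
    apply List.map_congr_left
    intro q _
    show (q.2.map gw).length = q.2.length
    rw [List.length_map]
  rw [h2, prodC, Subgroup.card_bot, mul_one] at h1
  have h3 := chainSet_subset (⊥ : Subgroup ↥P) (Subgroup.centralizer ({t} : Set ↥P)) bot_le
    (lvC.map toLvl) lvC_mem
  calc 743178240 ≤ (chainSet (⊥ : Subgroup ↥P) (lvC.map toLvl)).ncard := h1
    _ ≤ ((Subgroup.centralizer ({t} : Set ↥P) : Subgroup ↥P) : Set ↥P).ncard :=
        Set.ncard_le_ncard h3 (Set.toFinite _)
    _ = Nat.card ↥(Subgroup.centralizer ({t} : Set ↥P)) := (Nat.card_coe_set_eq _).symm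

/-- the class of the involution has at most `56925` elements -/
theorem ncard_class_le : {a : ↥P | IsConj t a}.ncard ≤ 56925 := by
  have h := ncard_isConj t
  rw [card_P] at h
  have h2 := card_C_ge
  by_contra hlt
  push Not at hlt
  have : 56926 * 743178240 ≤ {a : ↥P | IsConj t a}.ncard *
      Nat.card ↥(Subgroup.centralizer ({t} : Set ↥P)) := Nat.mul_le_mul hlt h2
  rw [h] at this
  norm_num [NCo2] at this

end

end Cfsg.Agent.Lib.Helper21.Co2
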