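import Cfsg.Agent.Lib.Helper21.Co2.OBasic

set_option autoImplicit false

/-!
# The list of the conjugates of the involution of the Conway group `Co₂` on 4600 points: the check of a part

An entry is a conjugating word `w` and a witness `(r, p, l)` that the relation `r` fails for the conjugate
`w t w⁻¹` and `y`; the entries are packed in fields of 48 bits.  The scan of a part checks that the codes of the
conjugates increase and that each conjugate fails a relation or has one of the eleven exceptional codes.
-/

namespace Cfsg.Agent.Lib.Helper21.Co2

open Cfsg
open Cfsg.Agent.Lib.Helper10.SX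

noncomputable section

/-- an entry: word, relation, point, length of the cycle -/
abbrev Ent : Type := List ℕ × ℕ × ℕ × ℕ

/-- the entry `i` of a packed list -/
def entAt (D i : ℕ) : Ent :=
  forceNat' (Nat.land (Nat.shiftRight D (Nat.mul 48 i)) 0xffffffffffff) fun e =>
    (decW 8 (Nat.land e 0x1ffffff), Nat.land (Nat.shiftRight e 25) 7,
      Nat.land (Nat.shiftRight e 28) 8191, Nat.land (Nat.shiftRight e 41) 63)
where
  /-- apply a function to a number after evaluating the number -/
  forceNat' (y : ℕ) (f : ℕ → Ent) : Ent :=
    Nat.rec (motive := fun _ => Ent) (f 0) (fun k _ => f (Nat.succ k)) y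

/-- the entries of a packed list -/
def entsOf (D N : ℕ) : List Ent := (List.range N).map (entAt D)

theorem length_entsOf (D N : ℕ) : (entsOf D N).length = N := by
  unfold entsOf
  rw [List.length_map, List.length_range]

/-- the exceptional codes: the conjugates of `t` by the powers of `y` -/
def EXC : List ℕ :=
  [193819180697264129, 15431642434078387112, 18911955918482623391, 19034411349450443892, 18322063508393570056, 19831572030544949750, 18628217639380594580, 19484281482576130550, 20462348192862704118, 14524827596176336241, 20709809219828330999]

/-- apply a function to a number after evaluating the number -/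
def forceO (y : ℕ) (f : ℕ → Option ℕ) : Option ℕ :=
  Nat.rec (motive := fun _ => Option ℕ) (f 0) (fun k _ => f (Nat.succ k)) y

theorem forceO_eq (y : ℕ) (f : ℕ → Option ℕ) : forceO y f = f y := by
  cases y <;> rfl

/-- the entry is fine: a relation fails or the code is exceptional -/
def entOk (e : Ent) (c : ℕ) : Bool :=
  relFailW (conjW e.1) e.2.1 e.2.2.1 e.2.2.2 || EXC.contains c

/-- scan a list of entries: the codes increase from `lo`, each entry is fine; returns the last code -/
def scan : ℕ → List Ent → Option ℕ
  | lo, [] => some lo
  | lo, e :: es => forceO (codeInv e.1) fun c =>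
      if Nat.blt lo c && entOk e c then scan c es else none

theorem scan_cons (lo : ℕ) (e : Ent) (es : List Ent) :
    scan lo (e :: es) =
      if Nat.blt lo (codeInv e.1) && entOk e (codeInv e.1) then scan (codeInv e.1) es else none := by
  rw [scan, forceO_eq]

theorem scan_append : ∀ (es es' : List Ent) (lo : ℕ),
    scan lo (es ++ es') = (scan lo es).bind fun hi => scan hi es'
  | [], es', lo => rfl
  | e :: es, es', lo => by
    rw [List.cons_append, scan_cons, scan_cons]
    split
    · exact scan_append es es' _
    · rfl

theorem scan_sound : ∀ (es : List Ent) (lo hi : ℕ), scan lo es = some hi →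
    incrFrom lo (es.map fun e => codeInv e.1) = true ∧
      ∀ e ∈ es, relFailW (conjW e.1) e.2.1 e.2.2.1 e.2.2.2 = true ∨ codeInv e.1 ∈ EXC
  | [], _, _, _ => ⟨rfl, fun e he => absurd he List.not_mem_nil⟩
  | e :: es, lo, hi, h => by
    rw [scan_cons] at h
    split at h
    · rename_i hc
      rw [Bool.and_eq_true] at hc
      obtain ⟨h1, h2⟩ := hc
      obtain ⟨ih1, ih2⟩ := scan_sound es _ hi h
      refine ⟨?_, ?_⟩
      · rw [List.map_cons, incrFrom, Bool.and_eq_true]
        exact ⟨h1, ih1⟩
      · intro e' he'
        rcases List.mem_cons.mp he' with rfl | he'
        · unfold entOk at h2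
          rw [Bool.or_eq_true] at h2
          rcases h2 with h2 | h2
          · exact Or.inl h2
          · exact Or.inr (List.contains_iff_mem.mp h2)
        · exact ih2 e' he'
    · exact absurd h (by simp)

end

end Cfsg.Agent.Lib.Helper21.Co2
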