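import Cfsg.Agent.Lib.Helper21.Co2.OCls
import Cfsg.Agent.Lib.Helper21.Co2.OClsD2
import Cfsg.Agent.Lib.Helper21.Co2.OClsC0

set_option autoImplicit false

/-! # The check of part 2 of the conjugates of the involution of `Co₂` on 4600 points (generated) -/

namespace Cfsg.Agent.Lib.Helper21.Co2

set_option maxHeartbeats 0 in
set_option maxRecDepth 1000000 in
theorem clsC2 : scan 14912827600226102270 (entsOf clsD2 3600) = some 15201344829359647853 := by decide +kernel

end Cfsg.Agent.Lib.Helper21.Co2
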