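import Cfsg.Agent.Lib.Helper21.Co2.OCls
import Cfsg.Agent.Lib.Helper21.Co2.OClsD8
import Cfsg.Agent.Lib.Helper21.Co2.OClsC6

set_option autoImplicit false

/-! # The check of part 8 of the conjugates of the involution of `Co₂` on 4600 points (generated) -/

namespace Cfsg.Agent.Lib.Helper21.Co2

set_option maxHeartbeats 0 in
set_option maxRecDepth 1000000 in
theorem clsC8 : scan 18951910549032890250 (entsOf clsD8 3600) = some 19246191371377815376 := by decide +kernel

end Cfsg.Agent.Lib.Helper21.Co2
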