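import Cfsg.Agent.Lib.Helper21.Co2.OCls
import Cfsg.Agent.Lib.Helper21.Co2.OClsD14
import Cfsg.Agent.Lib.Helper21.Co2.OClsC12

set_option autoImplicit false

/-! # The check of part 14 of the conjugates of the involution of `Co₂` on 4600 points (generated) -/

namespace Cfsg.Agent.Lib.Helper21.Co2

set_option maxHeartbeats 0 in
set_option maxRecDepth 1000000 in
theorem clsC14 : scan 20696456200794042855 (entsOf clsD14 3600) = some 20713780621453553930 := by decide +kernel

end Cfsg.Agent.Lib.Helper21.Co2
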