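import Cfsg.Agent.Lib.Helper21.Co2.OCent
import Cfsg.Agent.Lib.Helper21.Co2.OClsC0
import Cfsg.Agent.Lib.Helper21.Co2.OClsC1
import Cfsg.Agent.Lib.Helper21.Co2.OClsC2
import Cfsg.Agent.Lib.Helper21.Co2.OClsC3
import Cfsg.Agent.Lib.Helper21.Co2.OClsC4
import Cfsg.Agent.Lib.Helper21.Co2.OClsC5
import Cfsg.Agent.Lib.Helper21.Co2.OClsC6
import Cfsg.Agent.Lib.Helper21.Co2.OClsC7
import Cfsg.Agent.Lib.Helper21.Co2.OClsC8
import Cfsg.Agent.Lib.Helper21.Co2.OClsC9
import Cfsg.Agent.Lib.Helper21.Co2.OClsC10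
import Cfsg.Agent.Lib.Helper21.Co2.OClsC11
import Cfsg.Agent.Lib.Helper21.Co2.OClsC12
import Cfsg.Agent.Lib.Helper21.Co2.OClsC13
import Cfsg.Agent.Lib.Helper21.Co2.OClsC14
import Cfsg.Agent.Lib.Helper21.Co2.OClsC15

set_option autoImplicit false

/-!
# Every automorphism of the Conway group `Co₂` on 4600 points is inner

The generating pair is `(t, y) = (B, A)` of orders 2 and 11.  An automorphism can be composed with an inner one so that
`y` is fixed; the image of `t` is a conjugate of `t` (`aut_conj_t`), so one of the `56925` listed elements; the relations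
of `(t, y)` leave only the conjugates of `t` by the powers of `y`.
-/

namespace Cfsg.Agent.Lib.Helper21.Co2

open Cfsg
open Cfsg.Agent.Lib.Helper10.SX Cfsg.Agent.Lib.Helper10.OutG
open MulAction

attribute [local irreducible] perm

noncomputable section

/-! ### the generating pair -/

/-- the generator of order 11 -/
def y : ↥P := gw [0]

theorem t_sq : t * t = 1 := by
  have h : sigEq (tw ++ tw) [] = true := by decide +kernel
  rw [t, ← gw_append]
  exact (sigEq_iff _ _).mp h

theorem orderOf_t : orderOf t = 2 :=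
  orderOf_eq_prime (by rw [pow_two]; exact t_sq) t_ne

theorem y_pow : y ^ 11 = 1 := by
  have h : sigEq (rpt 11 [0]) [] = true := by decide +kernel
  rw [y, ← gw_rpt]
  exact (sigEq_iff _ _).mp h

theorem y_ne : y ≠ 1 := by
  have h : sigEq [0] [] = false := by decide +kernel
  exact (sigEq_eq_false_iff [0] []).mp h

instance fact11 : Fact (Nat.Prime 11) := ⟨by norm_num⟩

theorem orderOf_y : orderOf y = 11 := orderOf_eq_prime y_pow y_ne

theorem gw_rpt_y (i : ℕ) : gw (rpt i [0]) = y ^ i := gw_rpt i [0]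

/-- the word of an element normalising the subgroup of order 11 -/
def nW : List ℕ := [2, 1, 1, 1, 1, 2, 0, 0, 2, 1, 1, 1, 2, 4, 6, 5, 7, 4, 6, 4, 6, 10, 8, 11, 8, 10, 9, 15, 13, 16, 18]

/-- the element of order 10 normalising the subgroup of order 11 -/
def nn : ↥P := gw nW

theorem nn_conj : nn * y * nn⁻¹ = y ^ 2 := by
  have h : sigEq (nW ++ ([0] ++ winv nW)) (rpt 2 [0]) = true := by decide +kernel
  have h1 := (sigEq_iff _ _).mp h
  rw [gw_append, gw_append, gw_winv, gw_rpt_y] at h1
  show gw nW * gw [0] * (gw nW)⁻¹ = y ^ 2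
  rw [mul_assoc, h1]

theorem nn_pow_conj (i m : ℕ) : nn ^ i * y ^ m * (nn ^ i)⁻¹ = y ^ (m * 2 ^ i) := by
  induction i with
  | zero => rw [pow_zero, one_mul, inv_one, mul_one, pow_zero, mul_one]
  | succ i ih =>
    have e : nn ^ (i + 1) * y ^ m * (nn ^ (i + 1))⁻¹ =
        nn * (nn ^ i * y ^ m * (nn ^ i)⁻¹) * nn⁻¹ := by
      rw [pow_succ']
      group
    rw [e, ih, ← conj_pow, nn_conj, ← pow_mul, pow_succ]
    congr 1
    ring

theorem exists_conj_y (y' : ↥P) (hy' : orderOf y' = 11) : ∃ g : ↥P, g * y' * g⁻¹ = y := by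
  obtain ⟨g0, hg0⟩ := exists_conj_mem_zpowers 11 (by rw [card_P]; norm_num [NCo2]) y y' orderOf_y hy'
  have ho : orderOf (g0 * y' * g0⁻¹) = 11 := by
    rw [← MulAut.conj_apply, MulEquiv.orderOf_eq]
    exact hy'
  rw [← mem_powers_iff_mem_zpowers, Submonoid.mem_powers_iff] at hg0
  obtain ⟨m, hm⟩ := hg0
  have hm' : y ^ (m % 11) = g0 * y' * g0⁻¹ := by
    rw [← hm, ← orderOf_y, pow_mod_orderOf]
  have hm0 : m % 11 ≠ 0 := by
    intro h0
    rw [h0, pow_zero] at hm'
    rw [← hm', orderOf_one] at ho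
    omega
  have hdec : ∀ r < 11, r ≠ 0 → ∃ i < 10, (r * 2 ^ i) % 11 = 1 := by
    decide
  obtain ⟨i, -, hi⟩ := hdec (m % 11) (Nat.mod_lt _ (by norm_num)) hm0
  refine ⟨nn ^ i * g0, ?_⟩
  have e : nn ^ i * g0 * y' * (nn ^ i * g0)⁻¹ = nn ^ i * (g0 * y' * g0⁻¹) * (nn ^ i)⁻¹ := by
    group
  rw [e, ← hm', nn_pow_conj]
  have hp : y ^ (m % 11 * 2 ^ i) = y ^ ((m % 11 * 2 ^ i) % 11) := by
    rw [← orderOf_y, pow_mod_orderOf]
  rw [hp, hi, pow_one]

/-! ### the list of the conjugates of the involution -/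

/-- all the entries -/
def allEnts : List Ent :=
  entsOf clsD0 3600 ++
    (entsOf clsD1 3600 ++
    (entsOf clsD2 3600 ++
    (entsOf clsD3 3600 ++
    (entsOf clsD4 3600 ++
    (entsOf clsD5 3600 ++
    (entsOf clsD6 3600 ++
    (entsOf clsD7 3600 ++
    (entsOf clsD8 3600 ++
    (entsOf clsD9 3600 ++
    (entsOf clsD10 3600 ++
    (entsOf clsD11 3600 ++
    (entsOf clsD12 3600 ++
    (entsOf clsD13 3600 ++
    (entsOf clsD14 3600 ++
    (entsOf clsD15 2925)))))))))))))))

theorem scan_app {lo mid hi : ℕ} {A B : List Ent} (h1 : scan lo A = some mid)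
    (h2 : scan mid B = some hi) : scan lo (A ++ B) = some hi := by
  rw [scan_append, h1]
  exact h2

theorem scanAll : scan 0 allEnts = some 20714277620050702838 := by
  unfold allEnts
  exact scan_app clsC0 (scan_app clsC1 (scan_app clsC2 (scan_app clsC3 (scan_app clsC4
    (scan_app clsC5 (scan_app clsC6 (scan_app clsC7 (scan_app clsC8 (scan_app clsC9
    (scan_app clsC10 (scan_app clsC11 (scan_app clsC12 (scan_app clsC13 (scan_app clsC14
    clsC15))))))))))))))

theorem length_allEnts : allEnts.length = 56925 := by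
  simp only [allEnts, List.length_append, length_entsOf]

/-- the conjugates of the involution -/
def invs : List ↥P := allEnts.map fun e => gw (conjW e.1)

theorem invs_nodup : invs.Nodup := by
  apply List.Nodup.of_map hcode
  have : invs.map hcode = allEnts.map fun e => codeInv e.1 := by
    unfold invs
    rw [List.map_map]
    apply List.map_congr_left
    intro e _
    exact (codeInv_eq e.1).symm
  rw [this]
  exact nodup_of_incrFrom _ 0 (scan_sound allEnts 0 _ scanAll).1

theorem invs_length : invs.length = 56925 := by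
  unfold invs
  rw [List.length_map, length_allEnts]

theorem mem_invs_of_conj (a : ↥P) (hconj : IsConj t a) : a ∈ invs := by
  have hsub : (↑invs.toFinset : Set ↥P) ⊆ {a | IsConj t a} := by
    intro x hx
    rw [Finset.mem_coe, List.mem_toFinset] at hx
    obtain ⟨e, -, rfl⟩ := List.mem_map.mp hx
    rw [Set.mem_ofPred_eq, gw_conjW, isConj_iff]
    exact ⟨gw e.1, by rw [mul_assoc]; rfl⟩
  have heq : (↑invs.toFinset : Set ↥P) = {a | IsConj t a} := by
    refine Set.eq_of_subset_of_ncard_le hsub ?_ (Set.toFinite _)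
    rw [Set.ncard_coe_finset, List.toFinset_card_of_nodup invs_nodup, invs_length]
    exact ncard_class_le
  have hmem : a ∈ (↑invs.toFinset : Set ↥P) := by rw [heq]; exact hconj
  rwa [Finset.mem_coe, List.mem_toFinset] at hmem

/-! ### the images of the generating pair under automorphisms -/

/-- the conjugating words of the exceptional elements -/
def EXW : List (List ℕ) := (List.range 11).map fun i => rpt i [0]

theorem exc_codes : eqL (EXW.map codeInv) EXC = true := by decide +kernel

theorem rel_ty : Rel t y := by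
  have h : relOkW tw = true := by decide +kernel
  exact rel_of_okW h

theorem aut_images (α : MulAut ↥P) : ∃ h : ↥P, α t = h * t * h⁻¹ ∧ α y = h * y * h⁻¹ := by
  have hαy : orderOf (α y) = 11 := by
    rw [MulEquiv.orderOf_eq]
    exact orderOf_y
  obtain ⟨g, hg⟩ := exists_conj_y (α y) hαy
  let β : ↥P →* ↥P := (MulAut.conj g).toMonoidHom.comp α.toMonoidHom
  have hβt : β t = g * α t * g⁻¹ := rfl
  have hβy : β y = g * α y * g⁻¹ := rfl
  have hrel : Rel (β t) (β y) := rel_ty.map β
  have hconj : IsConj t (β t) := by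
    have h1 := aut_conj_t α
    rw [hβt]
    exact h1.trans (isConj_iff.mpr ⟨g, rfl⟩)
  obtain ⟨e, he, hw⟩ := List.mem_map.mp (mem_invs_of_conj (β t) hconj)
  rcases (scan_sound allEnts 0 _ scanAll).2 e he with hf | hex
  · exfalso
    apply not_rel_of_failW hf
    rw [hw]
    show Rel (β t) y
    rw [← hg, ← hβy]
    exact hrel
  · rw [← eq_of_eqL exc_codes, List.mem_map] at hex
    obtain ⟨v, hv, hvc⟩ := hex
    have hvw : gw (conjW v) = gw (conjW e.1) := by
      apply hcode_injective
      rw [← codeInv_eq, ← codeInv_eq]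
      exact hvc
    obtain ⟨i, -, rfl⟩ := List.mem_map.mp hv
    rw [hw, gw_conjW, gw_rpt_y, hβt] at hvw
    refine ⟨g⁻¹ * y ^ i, ?_, ?_⟩
    · have e1 : α t = g⁻¹ * (g * α t * g⁻¹) * g := by group
      rw [e1, ← hvw]
      show g⁻¹ * (y ^ i * (t * (y ^ i)⁻¹)) * g = _
      group
    · have e1 : α y = g⁻¹ * (g * α y * g⁻¹) * g := by group
      rw [e1, hg]
      have hc : y ^ i * y = y * y ^ i := pow_mul_comm' y i
      calc g⁻¹ * y * g = g⁻¹ * (y * y ^ i * (y ^ i)⁻¹) * g := by group
        _ = g⁻¹ * (y ^ i * y * (y ^ i)⁻¹) * g := by rw [hc]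
        _ = g⁻¹ * y ^ i * y * (g⁻¹ * y ^ i)⁻¹ := by group

/-! ### generation -/

theorem gen_ty : Subgroup.closure ({t, y} : Set ↥P) = ⊤ := by
  have ht : t ∈ Subgroup.closure ({t, y} : Set ↥P) := Subgroup.subset_closure (by simp)
  have hy : y ∈ Subgroup.closure ({t, y} : Set ↥P) := Subgroup.subset_closure (by simp)
  rw [eq_top_iff]
  have hle : P ≤ (Subgroup.closure ({t, y} : Set ↥P)).map P.subtype := by
    apply grp_le_iff.mpr
    intro c hc
    simp only [List.mem_cons, List.not_mem_nil, or_false] at hc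
    rcases hc with rfl | rfl
    · refine ⟨y, hy, ?_⟩
      show pw [0] = perm 4600 cA
      rw [pw_cons, pw_nil, mul_one]
      rfl
    · refine ⟨t, ht, ?_⟩
      show pw [2] = perm 4600 cB
      rw [pw_cons, pw_nil, mul_one]
      rfl
  intro g _
  obtain ⟨h, hh, hgh⟩ := hle g.2
  have : h = g := Subtype.ext hgh
  rw [← this]
  exact hh

/-- every automorphism of the group on 4600 points is inner -/
theorem aut_inner (α : MulAut ↥P) : ∃ g : ↥P, α = MulAut.conj g := by
  obtain ⟨h, h1, h2⟩ := aut_images α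
  refine ⟨h, ?_⟩
  apply mulAut_ext_of_closure t y gen_ty
  · rw [h1, MulAut.conj_apply]
  · rw [h2, MulAut.conj_apply]

theorem card_out_P : Nat.card (Cfsg.Out ↥P) = 1 := by
  show (Cfsg.Inn ↥P).index = 1
  rw [Subgroup.index_eq_one, eq_top_iff]
  intro φ _
  obtain ⟨g, rfl⟩ := aut_inner φ
  exact ⟨g, rfl⟩

/-- the Conway group `Co₂` of the definitions has no outer automorphisms -/
theorem card_out_Co2 : Nat.card (Cfsg.Out ↥Cfsg.Spor.Co2) = 1 := by
  rw [card_out_congr co2Iso]
  exact card_out_P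

end

end Cfsg.Agent.Lib.Helper21.Co2
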