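import Mathlib

set_option autoImplicit false

/-!
# Data for a Sylow 2-subgroup of the Conway group `Co₂` on 4600 points (generated)

* `sWs`: words for 18 generators `s₀ = t, s₁, …, s₁₇` of a Sylow 2-subgroup `S` (sign changes on 10 sets of the code and 8
  permutations of the 24 points fixing the two special points as a set and an octad);
* `ordE`: `sᵢ ^ (2 ^ ordE i) = 1`; `conjT`: for `j < i`, the list `conjT i j` of indices below `i` with `sᵢ sⱼ sᵢ⁻¹ = ∏ s_k`;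
* `b0`: a point with an orbit of 2048 points under `S`; `stabD`: elements of `S` fixing `b0` (a short word, and a product of the
  generators); they have only the four common fixed points `cands`;
* `gW0`: a word `g` mapping the base points into the orbit of `b0`; `orbD`: the base points with products `u` of the generators,
  `u b0 = g bᵢ`; `zcs`: for each of the four points `c` the only possible element `z` of the centraliser of `S` with `z b0 = c`.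
-/

namespace Cfsg.Agent.Lib.Helper21.Co2

/-- the words of the generators -/
def sWs : List (List ℕ) := [
  [2],
  [2, 5, 6, 5, 6, 5, 7, 4, 4, 9, 11, 8, 11, 8, 11, 9, 14, 12, 17, 15, 12, 12],
  [5, 7, 5, 6, 4, 7, 5, 7, 4, 4, 9, 10, 9, 10, 10, 8, 11, 17, 15],
  [2, 6, 4, 6, 4, 7, 4, 4, 10, 8, 8, 11, 8, 10, 10, 9, 17, 13, 14, 13],
  [7, 5, 6, 4, 4, 7, 5, 7, 5, 9, 11, 9, 10, 9, 14, 14, 17, 12],
  [2, 6, 6, 5, 7, 5, 6, 8, 10, 8, 10, 9, 10, 10, 15, 13, 14, 18],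
  [2, 7, 4, 7, 5, 6, 6, 4, 4, 11, 8, 8, 10, 8, 8, 10, 9, 16, 12, 16, 14],
  [4, 6, 4, 4, 7, 5, 6, 4, 11, 8, 8, 11, 8, 10, 9, 10, 10, 16, 14, 14, 17, 12],
  [5, 6, 4, 6, 4, 7, 4, 9, 11, 9, 10, 8, 10, 9, 14, 14, 12, 18],
  [4, 4, 6, 6, 4, 4, 10, 10, 9, 10, 8, 11, 8, 8, 14, 12, 17, 15, 12, 18],
  [9, 11, 8, 8, 10, 8, 14, 14, 13, 15],
  [6, 6, 5, 10, 8, 10, 9, 11, 8, 10, 8, 13, 16, 14, 14, 16, 12, 18],
  [5, 7, 5, 6, 6, 4, 6, 4, 9, 10, 8, 10, 10, 14, 12, 14, 17],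
  [1, 1, 1, 2, 1, 1, 1, 1, 2, 0, 0, 2, 4, 6, 4, 6, 5, 6, 6, 5, 9, 10, 9, 10, 10, 13, 15, 17, 14],
  [2, 0, 0, 0, 2, 1, 2, 1, 1, 4, 7, 5, 6, 4, 6, 6, 11, 9, 11, 8, 17, 13, 14, 16, 18],
  [1, 1, 1, 1, 2, 1, 1, 2, 0, 0, 6, 4, 7, 5, 7, 4, 11, 8, 10, 8, 10, 10, 9, 15, 16, 15],
  [1, 1, 1, 2, 1, 1, 1, 2, 7, 4, 4, 6, 5, 7, 4, 7, 4, 11, 8, 8, 10, 8, 10, 9, 16, 15, 17, 13, 18],
  [2, 0, 0, 2, 1, 2, 1, 1, 2, 1, 2, 6, 4, 7, 4, 10, 8, 11, 8, 11, 9, 11, 15, 16, 12, 17, 15]]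

/-- the exponents of the orders of the generators -/
def ordE : List ℕ := [1, 1, 1, 1, 1, 1, 1, 1, 1, 1, 1, 1, 1, 1, 2, 2, 3, 2]

/-- the conjugation table -/
def conjT : List (List (List ℕ)) := [
  [],
  [[0]],
  [[0], [1]],
  [[0], [1], [2]],
  [[0], [1], [2], [3]],
  [[0], [1], [2], [3], [4]],
  [[0], [1], [2], [3], [4], [5]],
  [[0], [1], [2], [3], [4], [5], [6]],
  [[0], [1], [2], [3], [4], [5], [6], [7]],
  [[0], [1], [2], [3], [4], [5], [6], [7], [8]],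
  [[0], [1, 8], [7], [5, 8], [4, 8], [3, 8], [0, 1, 3, 4, 5, 6], [2], [8], [8, 9]],
  [[0], [1, 2, 5, 6], [3, 6], [0, 1, 2, 4, 6], [2, 4, 5, 6], [0, 1, 2, 3, 4, 5, 6], [0, 1, 4, 6], [0, 1, 3, 4, 6, 8], [0, 1, 2, 4, 7], [0, 1, 2, 4, 5, 6, 9], [10]],
  [[0], [1, 2, 9], [0, 4, 5, 9], [2, 3, 9], [0, 1, 2, 3, 5, 9], [0, 1, 2, 3, 4, 9], [0, 4, 5, 6], [1, 6, 7, 9], [2, 3, 6, 8], [0, 2, 4, 5], [11, 10], [11]],
  [[0], [1, 3, 4, 8], [1, 5, 7], [3, 4, 5, 8], [3, 8], [4, 8], [1, 3, 4, 5, 6], [1, 2, 3], [3, 5, 8], [1, 5, 8, 9], [10], [11], [12, 11]],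
  [[0], [3, 4, 9], [0, 1, 2, 3, 5, 9], [3, 5, 9], [0, 4, 5, 9], [0, 1, 3, 4, 5, 9], [3, 4, 6], [0, 1, 5, 6, 8, 9], [0, 1, 4, 5, 6, 7], [0, 1, 3, 5], [11, 10], [11], [12, 13, 10], [13, 11]],
  [[0], [1, 3, 7], [0, 1, 3, 5, 8], [1, 4, 7], [0, 3, 4, 7], [0, 1, 3, 4, 5, 7], [0, 3, 5, 6], [1, 6], [1, 2, 4, 6, 7], [0, 1, 3, 5, 7, 9], [14, 10, 12], [13, 11, 10], [13, 12, 10], [14, 13, 12], [14, 11]],
  [[0], [0, 3, 4, 8, 9], [1, 4, 5, 6, 7, 9], [8, 9], [4, 5, 8, 9], [1, 4, 8, 9], [1, 3, 6], [1, 4, 6, 9], [1, 2, 4, 5, 8], [4, 6, 8], [14, 12, 10], [12, 14], [15, 14, 10], [12, 14, 10], [14, 15, 10], [15, 14, 12]],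
  [[0], [3, 5, 8, 9], [0, 1, 4, 5, 7, 9], [4, 5, 8, 9], [0, 1, 3, 4, 5, 8, 9], [0, 3, 4, 8, 9], [0, 1, 4, 6], [2, 3, 6, 9], [6, 8], [0, 1, 4, 5, 8], [14, 10, 12], [13, 11, 10], [13, 12, 10], [15, 15, 10], [14, 11], [15], [10, 16, 10]]]

/-- the point -/
def b0 : ℕ := 44

/-- the four common fixed points -/
def cands : List ℕ := [44, 811, 4555, 3788]

/-- elements fixing the point: word and product of generators -/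
def stabD : List (List ℕ × List ℕ) := [
  ([1, 1, 1, 2, 1, 1, 1, 1, 2, 0, 0, 2, 6, 6, 4, 6, 5, 7, 4, 11, 8, 11, 9, 10, 8, 8, 11, 12, 12, 14, 12, 16, 18], [14, 14, 12]),
  ([6, 4, 6, 4, 6, 5, 7, 4, 4, 11, 8, 11, 8, 16, 12, 15, 13, 16, 12, 18], [2, 12, 9]),
  ([1, 1, 1, 2, 1, 1, 1, 1, 2, 0, 0, 2, 6, 4, 6, 5, 7, 4, 6, 4, 6, 10, 8, 10, 9, 10, 8, 16, 12, 15, 13, 18], [7, 13, 7]),
  ([1, 1, 1, 2, 0, 2, 0, 0, 2, 0, 2, 0, 7, 4, 6, 4, 6, 4, 7, 4, 6, 5, 11, 9, 10, 8, 11, 8, 10, 9, 12, 16, 12], [15, 15, 15, 16])]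

/-- the word mapping the base into the orbit -/
def gW0 : List ℕ := [1, 1, 2, 1, 15]

/-- the base points with the products of generators -/
def orbD : List (ℕ × List ℕ) := [(0, [16, 4, 2, 0]), (556, [17, 8, 14]), (561, [7, 17, 6]), (614, [9, 17, 0]), (1, [13, 17, 6])]

/-- the four points with the candidate elements -/
def zcs : List (ℕ × List ℕ) := [
  (44, []),
  (811, [2]),
  (4555, [1, 1, 2, 1, 15, 0, 2, 1, 2, 0, 2, 1, 7, 5, 7, 4, 6, 4, 6, 6, 5, 8, 10, 8, 8, 10, 9, 10, 8, 13, 17, 12, 15, 13, 14, 0, 3, 0, 0]),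
  (3788, [2, 1, 1, 2, 1, 15, 0, 2, 1, 2, 0, 2, 1, 7, 5, 7, 4, 6, 4, 6, 6, 5, 8, 10, 8, 8, 10, 9, 10, 8, 13, 17, 12, 15, 13, 14, 0, 3, 0, 0])]

end Cfsg.Agent.Lib.Helper21.Co2
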