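import Mathlib

set_option autoImplicit false

/-!
# Two generic lemmas on 2-groups

* a subgroup generated by a list of elements of 2-power order, each normalising the subgroup generated by the
  earlier ones, is a 2-group;
* if the centraliser of a nontrivial 2-subgroup `T` consists of `1` and `t`, every automorphism maps `t` to a
  conjugate of `t` (the centre of a Sylow 2-subgroup containing `T` is `{1, t}`).
-/

namespace Cfsg.Agent.Lib.Helper21.TwoCentral

variable {G : Type*} [Group G]

/-- the subgroup generated by a list -/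
def genL (l : List G) : Subgroup G := Subgroup.closure {x | x ∈ l}

theorem genL_cons (s : G) (l : List G) : genL (s :: l) = Subgroup.zpowers s ⊔ genL l := by
  unfold genL
  have : {x | x ∈ s :: l} = {s} ∪ {x | x ∈ l} := by
    ext x
    simp
  rw [this, Subgroup.closure_union, Subgroup.zpowers_eq_closure]

theorem mem_genL {l : List G} {x : G} (h : x ∈ l) : x ∈ genL l := Subgroup.subset_closure h

/-- an element conjugating the generators of a finite subgroup into it normalises it -/
theorem mem_normalizer_of_conj_gens [Finite G] (s : G) (l : List G)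
    (h : ∀ x ∈ l, s * x * s⁻¹ ∈ genL l) : s ∈ Subgroup.normalizer (genL l : Set G) := by
  have hle : (genL l).map (MulAut.conj s).toMonoidHom ≤ genL l := by
    rw [genL, MonoidHom.map_closure, Subgroup.closure_le]
    rintro _ ⟨x, hx, rfl⟩
    exact h x hx
  have hcard : Nat.card ((genL l).map (MulAut.conj s).toMonoidHom) = Nat.card (genL l) :=
    Subgroup.card_map_of_injective (MulAut.conj s).injective
  have heq : (genL l).map (MulAut.conj s).toMonoidHom = genL l :=
    Subgroup.eq_of_le_of_card_ge hle (le_of_eq hcard.symm)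
  rw [Subgroup.mem_normalizer_iff]
  intro x
  constructor
  · intro hx
    have : s * x * s⁻¹ ∈ (genL l).map (MulAut.conj s).toMonoidHom := ⟨x, hx, rfl⟩
    rwa [heq] at this
  · intro hx
    rw [← heq] at hx
    obtain ⟨x', hx', he⟩ := hx
    have : x' = x := (MulAut.conj s).injective he
    rwa [← this]

/-- the chain condition: each element has 2-power order and conjugates the later ones (the tail of the list) into
the subgroup they generate -/
def Chain2 : List G → Prop
  | [] => True
  | s :: l => (∃ e : ℕ, s ^ 2 ^ e = 1) ∧ (∀ x ∈ l, s * x * s⁻¹ ∈ genL l) ∧ Chain2 l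

theorem isPGroup_genL [Finite G] : ∀ l : List G, Chain2 l → IsPGroup 2 (genL l)
  | [], _ => by
    have : genL ([] : List G) = ⊥ := by
      unfold genL
      rw [Subgroup.closure_eq_bot_iff]
      intro x hx
      simp at hx
    rw [this]
    exact IsPGroup.of_bot
  | s :: l, h => by
    obtain ⟨⟨e, he⟩, hconj, hl⟩ := h
    have ih := isPGroup_genL l hl
    rw [genL_cons]
    have hz : IsPGroup 2 (Subgroup.zpowers s) := by
      intro g
      obtain ⟨k, hk⟩ := Subgroup.mem_zpowers_iff.mp g.2
      refine ⟨e, ?_⟩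
      apply Subtype.ext
      rw [Subgroup.coe_pow, Subgroup.coe_one, ← hk, ← zpow_natCast, ← zpow_mul, mul_comm, zpow_mul,
        zpow_natCast, he, one_zpow]
    have hnorm : Subgroup.zpowers s ≤ Subgroup.normalizer (genL l : Set G) := by
      rw [Subgroup.zpowers_le]
      exact mem_normalizer_of_conj_gens s l hconj
    exact IsPGroup.to_sup_of_normal_right' hz ih hnorm

/-- if the centraliser of a nontrivial 2-subgroup `T` is `{1, t}`, every automorphism maps `t` to a conjugate -/
theorem isConj_of_centralizer [Finite G] (t : G) (T : Subgroup G) (hT : IsPGroup 2 T)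
    (hne : ∃ s ∈ T, s ≠ 1) (hC : ∀ z : G, (∀ s ∈ T, z * s = s * z) → z = 1 ∨ z = t)
    (α : MulAut G) : IsConj t (α t) := by
  have : Fact (Nat.Prime 2) := ⟨Nat.prime_two⟩
  obtain ⟨S, hTS⟩ := hT.exists_le_sylow
  -- the centre of `S` is `{1, t}`
  have hcen : ∀ z : G, z ∈ (S : Subgroup G) → (∀ s ∈ (S : Subgroup G), z * s = s * z) → z = 1 ∨ z = t :=
    fun z _ hz => hC z (fun s hs => hz s (hTS hs))
  have : Nontrivial ↥(S : Subgroup G) := by
    obtain ⟨s, hs, hs1⟩ := hne
    refine ⟨⟨⟨s, hTS hs⟩, 1, ?_⟩⟩
    intro h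
    exact hs1 (congrArg Subtype.val h)
  obtain ⟨z, hz, hz1⟩ : ∃ z : ↥(S : Subgroup G), z ∈ Subgroup.center ↥(S : Subgroup G) ∧ z ≠ 1 := by
    have hnt := IsPGroup.center_nontrivial (p := 2) (G := ↥(S : Subgroup G)) S.isPGroup'
    obtain ⟨⟨a, ha⟩, ⟨b, hb⟩, hab⟩ := hnt
    by_cases h1 : a = 1
    · refine ⟨b, hb, ?_⟩
      intro hb1
      apply hab
      apply Subtype.ext
      show a = b
      rw [h1, hb1]
    · exact ⟨a, ha, h1⟩
  have hzc : ∀ s ∈ (S : Subgroup G), z.val * s = s * z.val := by
    intro s hs
    have := Subgroup.mem_center_iff.mp hz ⟨s, hs⟩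
    exact (congrArg Subtype.val this).symm
  have hzt : z.val = t := by
    rcases hcen z.val z.2 hzc with h | h
    · exact absurd (Subtype.ext h) hz1
    · exact h
  have htS : t ∈ (S : Subgroup G) := hzt ▸ z.2
  have htc : ∀ s ∈ (S : Subgroup G), t * s = s * t := hzt ▸ hzc
  have ht1 : t ≠ 1 := by
    intro h
    apply hz1
    apply Subtype.ext
    rw [hzt, h]
    rfl
  -- move `α S` back to `S`
  obtain ⟨g, hg⟩ := MulAction.exists_smul_eq G (α • S) S
  let β : MulAut G := MulAut.conj g * α
  have hβS : ∀ x : G, x ∈ (S : Subgroup G) → β x ∈ (S : Subgroup G) := by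
    intro x hx
    have h1 : α x ∈ ((α • S : Sylow 2 G) : Subgroup G) := by
      rw [Sylow.pointwise_smul_def]
      exact Subgroup.smul_mem_pointwise_smul x α _ hx
    have h2 : g * α x * g⁻¹ ∈ ((g • (α • S) : Sylow 2 G) : Subgroup G) := by
      rw [Sylow.coe_subgroup_smul]
      exact ⟨α x, h1, rfl⟩
    rw [hg] at h2
    exact h2
  have hβsurj : ∀ s ∈ (S : Subgroup G), ∃ x ∈ (S : Subgroup G), β x = s := by
    have hinj : Function.Injective (fun x : ↥(S : Subgroup G) =>
        (⟨β x.val, hβS x.val x.2⟩ : ↥(S : Subgroup G))) := by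
      intro x x' h
      apply Subtype.ext
      exact β.injective (congrArg Subtype.val h)
    have hsurj := Finite.surjective_of_injective hinj
    intro s hs
    obtain ⟨x, hx⟩ := hsurj ⟨s, hs⟩
    exact ⟨x.val, x.2, congrArg Subtype.val hx⟩
  have hβt : β t = t := by
    have h1 : ∀ s ∈ (S : Subgroup G), β t * s = s * β t := by
      intro s hs
      obtain ⟨x, hx, rfl⟩ := hβsurj s hs
      rw [← map_mul, ← map_mul, htc x hx]
    rcases hcen (β t) (hβS t htS) h1 with h | h
    · exfalso
      apply ht1
      apply β.injective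
      rw [h, map_one]
    · exact h
  have : g * α t * g⁻¹ = t := hβt
  rw [isConj_comm, isConj_iff]
  exact ⟨g, this⟩

end Cfsg.Agent.Lib.Helper21.TwoCentral
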