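import Cfsg.Agent.Lib.Helper21.Co2.OBasic
import Cfsg.Agent.Lib.Helper21.Co2.OSylData
import Cfsg.Agent.Lib.Helper21.Co2.TwoCentral

set_option autoImplicit false

/-!
# The involution `t` of the Conway group `Co₂` on 4600 points is mapped to a conjugate by every automorphism

A Sylow 2-subgroup `S` (18 explicit generators, each normalising the group generated by the earlier ones) has
centraliser `{1, t}`: an element `z` of the centraliser is determined by the image of a point `b0` whose orbit under
`S` contains the image of the base under a word; the image of `b0` is fixed by the stabiliser of `b0` in `S`, which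
leaves four points; two of them give `1` and `t`, the other two give elements not commuting with `t`.
-/

namespace Cfsg.Agent.Lib.Helper21.Co2

open Cfsg
open Cfsg.Agent.Lib.Helper10.SX
open Cfsg.Agent.Lib.Helper21.TwoCentral

attribute [local irreducible] perm

noncomputable section

/-- the word of the generator `i` -/
def sW (i : ℕ) : List ℕ := sWs.getD i []

/-- the word of a product of generators -/
def sflat (e : List ℕ) : List ℕ := (e.map sW).flatten

theorem sflat_cons (i : ℕ) (e : List ℕ) : sflat (i :: e) = sW i ++ sflat e := rfl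

theorem gw_sflat (e : List ℕ) : gw (sflat e) = (e.map fun i => gw (sW i)).prod := by
  induction e with
  | nil => rfl
  | cons i e ih => rw [sflat_cons, gw_append, ih, List.map_cons, List.prod_cons]

/-- the first `k` generators, the last first -/
def sListUpTo : ℕ → List ↥P
  | 0 => []
  | k + 1 => gw (sW k) :: sListUpTo k

theorem mem_sListUpTo {k : ℕ} {x : ↥P} : x ∈ sListUpTo k ↔ ∃ j < k, x = gw (sW j) := by
  induction k with
  | zero => simp [sListUpTo]
  | succ k ih =>
    rw [sListUpTo, List.mem_cons, ih]
    constructor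
    · rintro (rfl | ⟨j, hj, rfl⟩)
      · exact ⟨k, Nat.lt_succ_self k, rfl⟩
      · exact ⟨j, Nat.lt_succ_of_lt hj, rfl⟩
    · rintro ⟨j, hj, rfl⟩
      rcases Nat.lt_succ_iff_lt_or_eq.mp hj with h | rfl
      · exact Or.inr ⟨j, h, rfl⟩
      · exact Or.inl rfl

/-- the entry of the conjugation table -/
def conjE (i j : ℕ) : List ℕ := (conjT.getD i []).getD j []

/-- the check of the chain of generators -/
def chainChk : Bool :=
  allLt 18 fun i => sigEq (rpt (2 ^ ordE.getD i 0) (sW i)) [] &&
    allLt i fun j => ((conjE i j).all fun k => decide (k < i)) &&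
      sigEq (sW i ++ (sW j ++ winv (sW i))) (sflat (conjE i j))

set_option maxHeartbeats 0 in
set_option maxRecDepth 100000 in
theorem chainChk_ok : chainChk = true := by decide +kernel

theorem chain2_upTo : ∀ k, k ≤ 18 → Chain2 (sListUpTo k)
  | 0, _ => trivial
  | k + 1, hk => by
    have hk' : k < 18 := hk
    have h := chainChk_ok
    unfold chainChk at h
    rw [allLt_iff] at h
    have hi := h k hk'
    rw [Bool.and_eq_true, allLt_iff] at hi
    obtain ⟨ho, hc⟩ := hi
    refine ⟨⟨ordE.getD k 0, ?_⟩, ?_, chain2_upTo k (Nat.le_of_succ_le hk)⟩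
    · have := (sigEq_iff _ _).mp ho
      rw [gw_rpt] at this
      exact this
    · intro x hx
      obtain ⟨j, hj, rfl⟩ := mem_sListUpTo.mp hx
      have hcj := hc j hj
      rw [Bool.and_eq_true, List.all_eq_true] at hcj
      obtain ⟨hlt, heq⟩ := hcj
      have e := (sigEq_iff _ _).mp heq
      rw [gw_append, gw_append, gw_winv, ← mul_assoc] at e
      rw [e, gw_sflat]
      apply Subgroup.list_prod_mem
      intro y hy
      obtain ⟨i, hi, rfl⟩ := List.mem_map.mp hy
      apply mem_genL
      exact mem_sListUpTo.mpr ⟨i, of_decide_eq_true (hlt i hi), rfl⟩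

/-- the Sylow 2-subgroup -/
def TS : Subgroup ↥P := genL (sListUpTo 18)

theorem isPGroup_TS : IsPGroup 2 TS := isPGroup_genL _ (chain2_upTo 18 le_rfl)

theorem commute_sflat (z : ↥P) (hz : ∀ i, z * gw (sW i) = gw (sW i) * z) (e : List ℕ) :
    z * gw (sflat e) = gw (sflat e) * z := by
  induction e with
  | nil =>
    show z * gw [] = gw [] * z
    rw [gw_nil, mul_one, one_mul]
  | cons i e ih => rw [sflat_cons, gw_append, ← mul_assoc, hz i, mul_assoc, ih, mul_assoc]

/-! ### the checks -/

/-- the elements of `stabD` lie in the group and fix the point -/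
def stabChk : Bool := stabD.all fun p => sigEq p.1 (sflat p.2) && Nat.beq (evW p.1 b0) b0

/-- the elements of `stabD` have only four common fixed points -/
def fixChk : Bool :=
  allLt 4600 fun x => cands.contains x || stabD.any fun p => !(Nat.beq (evW p.1 x) x)

/-- the orbit of the point contains the image of the base -/
def orbChk : Bool :=
  eqL (orbD.map Prod.fst) bs && orbD.all fun p => Nat.beq (evW (sflat p.2) b0) (evW gW0 p.1)

/-- the candidates -/
def candChk : Bool :=
  eqL (zcs.map Prod.fst) cands && zcs.all fun q =>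
    (orbD.all fun p => Nat.beq (evW (sflat p.2) q.1) (evW q.2 (evW gW0 p.1))) &&
      (sigEq q.2 [] || sigEq q.2 tw ||
        (List.range 18).any fun j => !(sigEq (q.2 ++ sW j) (sW j ++ q.2)))

set_option maxHeartbeats 0 in
theorem stabChk_ok : stabChk = true := by decide +kernel

set_option maxHeartbeats 0 in
theorem fixChk_ok : fixChk = true := by decide +kernel

set_option maxHeartbeats 0 in
theorem orbChk_ok : orbChk = true := by decide +kernel

set_option maxHeartbeats 0 in
theorem candChk_ok : candChk = true := by decide +kernel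

theorem b0_lt : b0 < 4600 := by decide

/-- an element commuting with the generators is `1` or `t` -/
theorem cent_gens (z : ↥P) (hz : ∀ i, z * gw (sW i) = gw (sW i) * z) : z = 1 ∨ z = gw tw := by
  have hclt : (z • fpt b0).val < 4600 := (z • fpt b0).isLt
  have hfp : fpt (z • fpt b0).val = z • fpt b0 := Fin.ext (fpt_val hclt)
  -- the image of the point is fixed by the stabiliser
  have h1 : ∀ p ∈ stabD, evW p.1 (z • fpt b0).val = (z • fpt b0).val := by
    intro p hp
    have hs := stabChk_ok
    unfold stabChk at hs
    rw [List.all_eq_true] at hs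
    have hsp := hs p hp
    rw [Bool.and_eq_true] at hsp
    obtain ⟨e1, e2⟩ := hsp
    have e1' := (sigEq_iff _ _).mp e1
    have e2' : evW p.1 b0 = b0 := Nat.eq_of_beq_eq_true e2
    have hfixb : gw p.1 • fpt b0 = fpt b0 := by
      apply Fin.ext
      rw [gw_smul_val, fpt_val b0_lt]
      exact e2'
    have hcomm : z * gw p.1 = gw p.1 * z := by
      rw [e1']
      exact commute_sflat z hz _
    have h3 : gw p.1 • (z • fpt b0) = z • fpt b0 := by
      rw [← mul_smul, ← hcomm, mul_smul, hfixb]
    have h4 := congrArg Fin.val h3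
    rw [gw_smul_val] at h4
    exact h4
  -- so it is one of the four points
  have h2 : (z • fpt b0).val ∈ cands := by
    have hf := fixChk_ok
    unfold fixChk at hf
    rw [allLt_iff] at hf
    have hfc := hf _ hclt
    rw [Bool.or_eq_true] at hfc
    rcases hfc with h | h
    · exact List.contains_iff_mem.mp h
    · exfalso
      rw [List.any_eq_true] at h
      obtain ⟨p, hp, hne⟩ := h
      rw [h1 p hp, Nat.beq_refl] at hne
      exact absurd hne (by decide)
  have hcand := candChk_ok
  unfold candChk at hcand
  rw [Bool.and_eq_true, List.all_eq_true] at hcand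
  obtain ⟨hce, hcand⟩ := hcand
  rw [← eq_of_eqL hce, List.mem_map] at h2
  obtain ⟨q, hq, hqc⟩ := h2
  have hq2 := hcand q hq
  rw [Bool.and_eq_true, List.all_eq_true] at hq2
  obtain ⟨hq3, hq4⟩ := hq2
  have horb := orbChk_ok
  unfold orbChk at horb
  rw [Bool.and_eq_true, List.all_eq_true] at horb
  obtain ⟨ho1, ho2⟩ := horb
  have hbs : orbD.map Prod.fst = bs := eq_of_eqL ho1
  -- the element is the candidate
  have hzq : z = gw q.2 := by
    have key : (gw gW0)⁻¹ * ((gw q.2)⁻¹ * z) * ((gw gW0)⁻¹)⁻¹ = 1 := by
      apply rigid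
      intro b hb
      rw [← hbs, List.mem_map] at hb
      obtain ⟨p, hp, rfl⟩ := hb
      have hp1 : p.1 < 4600 := bs_lt p.1 (by rw [← hbs]; exact List.mem_map_of_mem hp)
      have e1 : evW (sflat p.2) b0 = evW gW0 p.1 := Nat.eq_of_beq_eq_true (ho2 p hp)
      have e2 : evW (sflat p.2) q.1 = evW q.2 (evW gW0 p.1) := Nat.eq_of_beq_eq_true (hq3 p hp)
      have hg : gw gW0 • fpt p.1 = gw (sflat p.2) • fpt b0 := by
        apply Fin.ext
        rw [gw_smul_val, gw_smul_val, fpt_val hp1, fpt_val b0_lt]
        exact e1.symm
      have hz1 : z • (gw gW0 • fpt p.1) = gw q.2 • (gw gW0 • fpt p.1) := by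
        have h5 : z • (gw (sflat p.2) • fpt b0) = gw (sflat p.2) • (z • fpt b0) := by
          rw [← mul_smul, commute_sflat z hz, mul_smul]
        rw [hg, h5, ← hg]
        apply Fin.ext
        rw [gw_smul_val, gw_smul_val, gw_smul_val, fpt_val hp1, ← hqc]
        exact e2
      rw [inv_inv, mul_smul, mul_smul, inv_smul_eq_iff, mul_smul, inv_smul_eq_iff]
      exact hz1
    rw [conj_eq_one_iff, inv_mul_eq_one] at key
    exact key.symm
  rw [Bool.or_eq_true, Bool.or_eq_true] at hq4
  rcases hq4 with (h | h) | h
  · left
    rw [hzq, (sigEq_iff _ _).mp h]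
    rfl
  · right
    rw [hzq, (sigEq_iff _ _).mp h]
  · exfalso
    rw [List.any_eq_true] at h
    obtain ⟨j, -, hj⟩ := h
    rw [Bool.not_eq_true', sigEq_eq_false_iff, gw_append, gw_append] at hj
    apply hj
    rw [← hzq]
    exact hz j

/-- the involution -/
def t : ↥P := gw tw

theorem t_ne : t ≠ 1 := by
  have h : sigEq tw [] = false := by decide +kernel
  exact (sigEq_eq_false_iff tw []).mp h

theorem sW_zero : sW 0 = tw := by decide

theorem sW_ge {i : ℕ} (hi : 18 ≤ i) : sW i = [] := by
  unfold sW
  exact List.getD_eq_default _ _ (by simpa [sWs] using hi)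

/-- every automorphism maps the involution to a conjugate -/
theorem aut_conj_t (α : MulAut ↥P) : IsConj t (α t) := by
  apply isConj_of_centralizer t TS isPGroup_TS
  · refine ⟨t, ?_, t_ne⟩
    apply mem_genL
    exact mem_sListUpTo.mpr ⟨0, by norm_num, by rw [sW_zero]; rfl⟩
  · intro z hz
    apply cent_gens z
    intro i
    by_cases hi : i < 18
    · exact hz _ (mem_genL (mem_sListUpTo.mpr ⟨i, hi, rfl⟩))
    · push Not at hi
      rw [sW_ge hi, gw_nil, mul_one, one_mul]

end

end Cfsg.Agent.Lib.Helper21.Co2
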