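import Cfsg.Agent.Lib.Helper21.Co2.Gens
import Cfsg.Agent.S1573

set_option autoImplicit false

/-!
# The 4600 points of the Conway group `Co₂` of the definitions

The set `X` of the 4600 lattice vectors `x` with `x·x = 32`, `x·(4,4,0^22) = -16`, listed explicitly.
-/

namespace Cfsg.Agent.Lib.Helper21.Co2

open Cfsg
open Cfsg.Agent.Lib.Helper3.Golay
open Cfsg.Agent.Lib.Helper14.LeechXi
open Cfsg.Agent.Lib.Helper14.LeechMono
open Cfsg.Agent.Lib.Helper10.SX
open Cfsg.Agent.Lib.Helper4.McL (vecOf eq_of_vecOf_eq)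

/-- the order of the group -/
abbrev NCo2 : ℕ := 42305421312000

/-- the `i`-th vector, as a list -/
def P4600 (i : ℕ) : List ℤ := decP (blkP ptsP i)

set_option maxHeartbeats 0 in
theorem okPts : allLt 4600 (fun i => forceB (blkP ptsP i) okN) = true := by decide +kernel

set_option maxHeartbeats 0 in
theorem stepPts : allLt 4599 (fun i => Nat.blt (blkP ptsP i) (blkP ptsP (i + 1))) = true := by
  decide +kernel

/-- the set of the 4600 vectors -/
def X : Set ↥leechLattice :=
  {x | sqNorm (x : GolayPt → ℤ) = 32 ∧ dotInt Spor.vecU (x : GolayPt → ℤ) = -16}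

theorem normU : sqNorm ((Spor.leechU : ↥leechLattice) : GolayPt → ℤ) = 32 := by
  show sqNorm Spor.vecU = 32
  decide +kernel

theorem ncard_X : X.ncard = 4600 := by
  have h := (Cfsg.Agent.S1573.result Spor.vecU Spor.leechU.2 normU).1
  rw [← h, ← Set.ncard_image_of_injective X Subtype.val_injective]
  congr 1
  ext w
  constructor
  · rintro ⟨x, ⟨h1, h2⟩, rfl⟩
    exact ⟨x.2, h1, h2⟩
  · rintro ⟨hw, h1, h2⟩
    exact ⟨⟨w, hw⟩, ⟨h1, h2⟩, rfl⟩

instance finite_X : Finite ↥X :=
  Set.finite_coe_iff.mpr (Set.finite_of_ncard_ne_zero (by rw [ncard_X]; norm_num))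

theorem card_X : Nat.card ↥X = 4600 := by
  rw [Nat.card_coe_set_eq, ncard_X]

theorem okPts' (i : ℕ) (hi : i < 4600) : okN (blkP ptsP i) = true := by
  have := (allLt_iff _ _).mp okPts i hi
  rwa [forceB_eq] at this

/-- the `i`-th point -/
def pt4600 (i : Fin 4600) : ↥X :=
  ⟨⟨vecOf (P4600 i.val), (okN_sound (okPts' i.val i.isLt)).1⟩,
    (okN_sound (okPts' i.val i.isLt)).2⟩

theorem pt4600_val (i : Fin 4600) :
    ((pt4600 i : ↥leechLattice) : GolayPt → ℤ) = vecOf (P4600 i.val) := rfl

theorem length_P4600 (i : ℕ) : (P4600 i).length = 24 := length_decP _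

theorem pt4600_injective : Function.Injective pt4600 := by
  intro i j h
  have h1 : vecOf (P4600 i.val) = vecOf (P4600 j.val) := by
    rw [← pt4600_val, ← pt4600_val, h]
  have h2 := eq_of_vecOf_eq (length_P4600 _) (length_P4600 _) h1
  have h3 : blkP ptsP i.val = blkP ptsP j.val := eq_of_decP_eq (blkP_lt _ _) (blkP_lt _ _) h2
  have hstep : ∀ k, k + 1 < 4600 → blkP ptsP k < blkP ptsP (k + 1) := by
    intro k hk
    have := (allLt_iff _ _).mp stepPts k (by omega)
    exact Nat.blt_eq.mp this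
  exact Fin.ext (inj_of_step hstep i.isLt j.isLt h3)

theorem pt4600_bijective : Function.Bijective pt4600 :=
  pt4600_injective.bijective_of_nat_card_le
    (by rw [card_X, Nat.card_eq_fintype_card, Fintype.card_fin])

/-- the enumeration of the 4600 points -/
noncomputable def e4600 : Fin 4600 ≃ ↥X := Equiv.ofBijective pt4600 pt4600_bijective

theorem e4600_apply (i : Fin 4600) : e4600 i = pt4600 i := rfl

end Cfsg.Agent.Lib.Helper21.Co2
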